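import Groth.Prelude.Def_AGF
import Groth.Agent.Lib.Kleiman27.Orbit
import Groth.Agent.Lib.GrpSchField.Components
import Groth.Agent.Lib.GITQuot.Orbit
import Groth.Agent.S1653

/-!
# The union of the conjugates of a subgroup
-/

universe u

open CategoryTheory CategoryTheory.Limits MonoidalCategory CartesianMonoidalCategory MonObj GrpObj
open AlgebraicGeometry TopologicalSpace Topology
open GrothLib.Orbit27 (ratPt ratPt_apply ratPt_ext subset_of_closedPoints)

namespace GrothLib.Conj27

variable {k : Type u} [Field k] {G H X : Over (Spec (CommRingCat.of k))} [GrpObj G] [GrpObj H]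

/-- The conjugation map. -/
noncomputable def conjMap (iH : H ⟶ G) : G ⊗ H ⟶ G :=
  fst G H * (snd G H ≫ iH) * (fst G H)⁻¹

/-- The graph of the conjugation map. -/
noncomputable def conjGraph (iH : H ⟶ G) : G ⊗ H ⟶ G ⊗ G :=
  lift (fst G H) (conjMap iH)

theorem comp_conjMap {T : Over (Spec (CommRingCat.of k))} (iH : H ⟶ G) (g : T ⟶ G) (h : T ⟶ H) :
    lift g h ≫ conjMap iH = g * (h ≫ iH) * g⁻¹ := by
  rw [conjMap, MonObj.comp_mul, MonObj.comp_mul, GrpObj.comp_inv, lift_fst, lift_snd_assoc]

theorem isClosedImmersion_conjGraph (iH : H ⟶ G) [IsClosedImmersion iH.left] :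
    IsClosedImmersion (conjGraph iH).left := by
  let S : G ⊗ G ≅ G ⊗ G :=
    { hom := lift (fst G G) (fst G G * snd G G * (fst G G)⁻¹)
      inv := lift (fst G G) ((fst G G)⁻¹ * snd G G * fst G G)
      hom_inv_id := by
        apply CartesianMonoidalCategory.hom_ext
        · simp
        · simp [MonObj.comp_mul, GrpObj.comp_inv, _root_.mul_assoc]
      inv_hom_id := by
        apply CartesianMonoidalCategory.hom_ext
        · simp
        · simp [MonObj.comp_mul, GrpObj.comp_inv, _root_.mul_assoc] }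
  have e : conjGraph iH = (G ◁ iH) ≫ S.hom := by
    apply CartesianMonoidalCategory.hom_ext
    · simp [conjGraph, S]
    · simp [conjGraph, conjMap, S, MonObj.comp_mul, GrpObj.comp_inv]
  haveI : IsClosedImmersion (G ◁ iH).left :=
    MorphismProperty.of_isPullback (GITQuot.isPullback_whiskerLeft G iH) inferInstance
  haveI : IsIso S.hom.left := inferInstanceAs (IsIso ((Over.forget _).mapIso S).hom)
  rw [e, Over.comp_left]
  infer_instance

variable [IsAlgClosed k] [IsAffine G.left] [Smooth G.hom] (iH : H ⟶ G) {a : AlgGrp.Action G X}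
  {o : 𝟙_ (Over (Spec (CommRingCat.of k))) ⟶ X} (hX : AGF.IsQuotient iH X a o)

include hX in
omit [IsAlgClosed k] [IsAffine G.left] [Smooth G.hom] in
theorem orbitMap_eq_iff {T : Over (Spec (CommRingCat.of k))} (g g' : T ⟶ G) :
    g ≫ a.orbitMap o = g' ≫ a.orbitMap o ↔ ∃ h : T ⟶ H, g * (h ≫ iH) = g' := by
  have hm : ∀ h : T ⟶ H, lift g h ≫ (G ◁ iH) ≫ μ[G] = g * (h ≫ iH) := fun h => by
    rw [lift_whiskerLeft_assoc, ← Hom.mul_def]
  refine ⟨fun e => ⟨hX.2.2.2.lift g g' e ≫ snd G H, ?_⟩, ?_⟩
  · rw [← hm]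
    conv_lhs => rw [show lift g (hX.2.2.2.lift g g' e ≫ snd G H) = hX.2.2.2.lift g g' e from by
      conv_rhs => rw [← lift_comp_fst_snd (hX.2.2.2.lift g g' e), hX.2.2.2.lift_fst]]
    exact hX.2.2.2.lift_snd _ _ _
  · rintro ⟨h, rfl⟩
    rw [← hm, Category.assoc, ← hX.2.2.2.w, lift_fst_assoc]

variable [ConnectedSpace G.left]

include hX in
theorem isClosed_range [IsClosedImmersion iH.left] [IsProper X.hom] :
    IsClosed (Set.range (conjMap iH).left.base) := by
  haveI : LocallyOfFiniteType G.hom := inferInstance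
  haveI : LocallyOfFiniteType iH.left := inferInstance
  haveI : LocallyOfFiniteType H.hom := by rw [← Over.w iH]; infer_instance
  haveI : LocallyOfFiniteType (G ⊗ H).hom := by
    show LocallyOfFiniteType (pullback.fst G.hom H.hom ≫ G.hom); infer_instance
  haveI : LocallyOfFiniteType (G ⊗ G).hom := by
    show LocallyOfFiniteType (pullback.fst G.hom G.hom ≫ G.hom); infer_instance
  haveI : IsClosedImmersion (conjGraph iH).left := isClosedImmersion_conjGraph iH
  let π := a.orbitMap o
  let Δ : X ⟶ X ⊗ X := lift (𝟙 X) (𝟙 X)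
  haveI : IsSeparated (snd X X).left := inferInstanceAs (IsSeparated (pullback.snd X.hom X.hom))
  haveI : IsClosedImmersion (Δ.left ≫ (snd X X).left) := by
    rw [← Over.comp_left, lift_snd]; show IsClosedImmersion (𝟙 _); infer_instance
  haveI : IsClosedImmersion Δ.left := IsClosedImmersion.of_comp Δ.left (snd X X).left
  let m : X ⊗ G ⟶ X ⊗ X := lift (lift (snd X G) (fst X G) ≫ a.act) (fst X G)
  let M : Set (X ⊗ G).left := m.left.base ⁻¹' Set.range Δ.left.base
  have hM : IsClosed M := Δ.left.isClosedEmbedding.isClosed_range.preimage m.left.continuous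
  haveI : LocallyOfFiniteType (X ⊗ G).hom := by
    show LocallyOfFiniteType (pullback.fst X.hom G.hom ≫ X.hom); infer_instance
  haveI : LocallyOfFiniteType (X ⊗ X).hom := by
    show LocallyOfFiniteType (pullback.fst X.hom X.hom ≫ X.hom); infer_instance
  have hmem : ∀ (x : 𝟙_ (Over (Spec (CommRingCat.of k))) ⟶ X) (g : 𝟙_ (Over (Spec (CommRingCat.of k))) ⟶ G),
      (lift x g).left.base (IsLocalRing.closedPoint k) ∈ M ↔ lift g x ≫ a.act = x := by
    intro x g
    have e : lift x g ≫ m = lift (lift g x ≫ a.act) x := by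
      rw [comp_lift, comp_lift_assoc, lift_fst, lift_snd]
    show m.left.base ((lift x g).left.base (IsLocalRing.closedPoint k)) ∈ Set.range Δ.left.base ↔ _
    rw [← GrothLib.Orbit27.comp_apply, e]
    constructor
    · rintro ⟨w, hw⟩
      have hwc : IsClosed ({w} : Set X.left) := by
        rw [← Δ.left.isClosedEmbedding.injective.preimage_image {w}, Set.image_singleton, hw]
        exact IsClosed.preimage Δ.left.continuous
          ((pointEquivClosedPoint (X ⊗ X).hom ⟨(lift (lift g x ≫ a.act) x).left, Over.w _⟩).2)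
      have he : ratPt w hwc ≫ Δ = lift (lift g x ≫ a.act) x :=
        ratPt_ext (by rw [GrothLib.Orbit27.comp_apply, ratPt_apply]; exact hw)
      rw [comp_lift, Category.comp_id] at he
      have h1 := congrArg (· ≫ fst X X) he
      have h2 := congrArg (· ≫ snd X X) he
      simp only [lift_fst, lift_snd] at h1 h2
      exact h1.symm.trans h2
    · intro h
      refine ⟨x.left.base (IsLocalRing.closedPoint k), ?_⟩
      rw [← GrothLib.Orbit27.comp_apply, comp_lift, Category.comp_id, h]
  -- `(x, g) ∈ M` with `x = g₀ · o` iff `g₀⁻¹ g g₀ ∈ H`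
  have key : ∀ g₀ g : 𝟙_ (Over (Spec (CommRingCat.of k))) ⟶ G,
      lift g (g₀ ≫ π) ≫ a.act = g₀ ≫ π ↔ ∃ h, g₀ * (h ≫ iH) * g₀⁻¹ = g := by
    intro g₀ g
    have e : lift g (g₀ ≫ π) ≫ a.act = (g * g₀) ≫ π := by
      simp only [π]
      rw [GrothLib.FlatFactor.comp_orbitMap, GrothLib.FlatFactor.comp_orbitMap, GrothLib.DiagGrp.act_mul]
    rw [e, eq_comm, orbitMap_eq_iff iH hX]
    exact exists_congr fun h => by rw [mul_inv_eq_iff_eq_mul]
  have hWG : ((π ▷ G).left.base ⁻¹' M) ⊆ Set.range (conjGraph iH).left.base := by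
    refine subset_of_closedPoints (hM.preimage (π ▷ G).left.continuous)
      (conjGraph iH).left.isClosedEmbedding.isClosed_range fun p hp => ?_
    have hp' : (p ≫ (π ▷ G)).left.base (IsLocalRing.closedPoint k) ∈ M := hp
    rw [← lift_comp_fst_snd p, lift_whiskerRight, hmem, key] at hp'
    obtain ⟨h, hh⟩ := hp'
    refine ⟨(lift (p ≫ fst G G) h).left.base (IsLocalRing.closedPoint k), ?_⟩
    rw [← GrothLib.Orbit27.comp_apply]
    congr 2
    rw [conjGraph, comp_lift, lift_fst, comp_conjMap, hh, lift_comp_fst_snd]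
  haveI : UniversallyClosed (snd X G).left := inferInstanceAs (UniversallyClosed (pullback.snd X.hom G.hom))
  have hR : IsClosed ((snd X G).left.base '' M) := (snd X G).left.isClosedMap M hM
  suffices h : Set.range (conjMap iH).left.base = (snd X G).left.base '' M by rw [h]; exact hR
  refine Set.Subset.antisymm ?_ ?_
  · have hall : (Set.univ : Set (G ⊗ H).left) ⊆ (conjMap iH).left.base ⁻¹' ((snd X G).left.base '' M) := by
      refine subset_of_closedPoints isClosed_univ (hR.preimage (conjMap iH).left.continuous) fun p _ => ?_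
      refine ⟨(lift (p ≫ fst G H ≫ π) (p ≫ conjMap iH)).left.base (IsLocalRing.closedPoint k), ?_, ?_⟩
      · rw [hmem, ← Category.assoc, key]
        refine ⟨p ≫ snd G H, ?_⟩
        rw [← comp_conjMap, lift_comp_fst_snd]
      · rw [← GrothLib.Orbit27.comp_apply, lift_snd]; rfl
    rintro _ ⟨w, rfl⟩
    exact hall (Set.mem_univ w)
  · rintro _ ⟨y, hy, rfl⟩
    haveI : Surjective π.left := hX.2.2.1
    haveI : Surjective (π ▷ G).left := MorphismProperty.of_isPullback (GITQuot.isPullback_whiskerRight π G) inferInstance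
    obtain ⟨w, rfl⟩ := (π ▷ G).left.surjective y
    obtain ⟨v, rfl⟩ := hWG hy
    refine ⟨v, ?_⟩
    rw [← Scheme.Hom.comp_apply, ← Scheme.Hom.comp_apply, ← Over.comp_left, ← Over.comp_left, whiskerRight_snd,
      conjGraph, lift_snd]

include hX in
theorem exists_open_subset [IsClosedImmersion iH.left] [Smooth H.hom] [ConnectedSpace H.left]
    (h₀ : 𝟙_ (Over (Spec (CommRingCat.of k))) ⟶ H)
    (hfin : Set.Finite {x : 𝟙_ (Over (Spec (CommRingCat.of k))) ⟶ X | lift (h₀ ≫ iH) x ≫ a.act = x}) :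
    ∃ U : G.left.Opens, (U : Set G.left).Nonempty ∧ (U : Set G.left) ⊆ Set.range (conjMap iH).left.base := by
  haveI : LocallyOfFiniteType G.hom := inferInstance
  haveI : QuasiCompact G.hom := inferInstance
  haveI : LocallyOfFiniteType H.hom := inferInstance
  haveI : IsAffine H.left := isAffine_of_isAffineHom iH.left
  haveI : QuasiCompact H.hom := inferInstance
  haveI := hX.1
  haveI : IrreducibleSpace G.left := GrothLib.SecLocus.irreducibleSpace_of_smooth_connected k G.hom
  haveI : IrreducibleSpace H.left := GrothLib.SecLocus.irreducibleSpace_of_smooth_connected k H.hom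
  haveI : IsReduced G.left := GrothLib.RedSmooth.isReduced_of_smooth G.hom
  haveI : IsIntegral G.left := isIntegral_of_irreducibleSpace_of_isReduced _
  haveI : IrreducibleSpace (G ⊗ H).left := GrothLib.GrpSchField.irreducibleSpace_pullback G.hom H.hom
  haveI : LocallyOfFiniteType (G ⊗ H).hom := by
    show LocallyOfFiniteType (pullback.fst G.hom H.hom ≫ G.hom); infer_instance
  haveI : QuasiCompact (G ⊗ H).hom := by
    show QuasiCompact (pullback.fst G.hom H.hom ≫ G.hom); infer_instance
  haveI : LocallyOfFiniteType (G ⊗ G).hom := by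
    show LocallyOfFiniteType (pullback.fst G.hom G.hom ≫ G.hom); infer_instance
  haveI : IsClosedImmersion (conjGraph iH).left := isClosedImmersion_conjGraph iH
  let Φ := (conjMap iH).left
  let π := (a.orbitMap o).left
  obtain ⟨gd, hgd⟩ := Kleiman27.exists_nat G.hom isClosed_univ (IrreducibleSpace.isIrreducible_univ G.left)
  rw [(Homeomorph.Set.univ G.left).isHomeomorph.topologicalKrullDim_eq] at hgd
  obtain ⟨η', hη⟩ := Kleiman27.exists_nat H.hom isClosed_univ (IrreducibleSpace.isIrreducible_univ H.left)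
  rw [(Homeomorph.Set.univ H.left).isHomeomorph.topologicalKrullDim_eq] at hη
  -- the translates of `H` over the fixed points
  classical
  let P : Finset X.left := hfin.toFinset.image fun x => x.left.base (IsLocalRing.closedPoint k)
  have hPc : ∀ x ∈ P, IsClosed ({x} : Set X.left) := fun x hx => by
    obtain ⟨y, -, rfl⟩ := Finset.mem_image.1 hx
    exact (pointEquivClosedPoint X.hom ⟨y.left, Over.w y⟩).2
  let D : Set G.left := π.base ⁻¹' (P : Set X.left)
  have hPcl : IsClosed (P : Set X.left) := by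
    rw [← Set.biUnion_of_singleton (P : Set X.left)]
    exact P.finite_toSet.isClosed_biUnion hPc
  have hD : IsClosed D := hPcl.preimage π.continuous
  have hDdim : topologicalKrullDim ↥D ≤ (η' : WithBot ℕ∞) := by
    refine CurveLocus.topologicalKrullDim_le_of_components _ fun W hW => ?_
    have hW' := Kleiman27.IsComp.of_mem hW
    rw [← Kleiman27.dim_eq_of_embedding IsEmbedding.subtypeVal W]
    obtain ⟨_, hz, hWz⟩ := isIrreducible_iff_sUnion_isClosed.1 hW'.1.1 (P.image fun x => π.base ⁻¹' {x})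
      (fun z hz => by obtain ⟨x, hx, rfl⟩ := Finset.mem_image.1 hz; exact (hPc x hx).preimage π.continuous)
      (fun w hw => ⟨_, Finset.mem_coe.2 (Finset.mem_image.2 ⟨π w, hW'.1.2 hw, rfl⟩), rfl⟩)
    obtain ⟨x, hx, rfl⟩ := Finset.mem_image.1 hz
    haveI : JacobsonSpace G.left := LocallyOfFiniteType.jacobsonSpace G.hom
    obtain ⟨g, hg, hgc⟩ := nonempty_inter_closedPoints (Z := π.base ⁻¹' {x}) (hW'.1.1.nonempty.mono hWz)
      ((hPc x hx).preimage π.continuous).isLocallyClosed
    haveI := Kleiman27.isIso_ltr (G := G) (ratPt g hgc)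
    let j : H ⟶ G := iH ≫ Kleiman27.ltr (ratPt g hgc)
    haveI : IsClosedImmersion j.left := by rw [Over.comp_left]; infer_instance
    have hj : π.base ⁻¹' {x} ⊆ Set.range j.left.base := by
      refine subset_of_closedPoints ((hPc x hx).preimage π.continuous) j.left.isClosedEmbedding.isClosed_range
        fun p hp => ?_
      have e : ratPt g hgc ≫ a.orbitMap o = p ≫ a.orbitMap o := ratPt_ext (by
        rw [GrothLib.Orbit27.comp_apply, GrothLib.Orbit27.comp_apply, ratPt_apply]
        exact (show π g = x from hg).trans (show π (p.left (IsLocalRing.closedPoint k)) = x from hp).symm)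
      obtain ⟨h, hh⟩ := (orbitMap_eq_iff iH hX _ _).1 e
      refine ⟨h.left.base (IsLocalRing.closedPoint k), ?_⟩
      rw [← GrothLib.Orbit27.comp_apply]
      congr 2
      rw [← hh]
      simp only [j, Kleiman27.ltr]
      rw [MonObj.comp_mul, MonObj.comp_mul, Category.comp_id, comp_toUnit_assoc, comp_toUnit_assoc,
        toUnit_unique (toUnit _) (𝟙 _), Category.id_comp]
    refine (Kleiman27.dim_preimage j.left.isEmbedding (hWz.trans hj)).ge.trans ?_
    exact (topologicalKrullDim_subspace_le _ _).trans hη.le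
  -- the fibre over `h₀`
  let g₁ := h₀ ≫ iH
  let y₀ := g₁.left.base (IsLocalRing.closedPoint k)
  have hy₀ : IsClosed ({y₀} : Set G.left) := (pointEquivClosedPoint G.hom ⟨g₁.left, Over.w g₁⟩).2
  let F := Φ.base ⁻¹' {y₀}
  let s : G ⟶ G ⊗ G := lift (𝟙 G) (toUnit G ≫ g₁)
  haveI : IsSeparated (fst G G).left := inferInstanceAs (IsSeparated (pullback.fst G.hom G.hom))
  haveI : IsClosedImmersion (s.left ≫ (fst G G).left) := by
    rw [← Over.comp_left, lift_fst]; show IsClosedImmersion (𝟙 _); infer_instance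
  haveI : IsClosedImmersion s.left := IsClosedImmersion.of_comp s.left (fst G G).left
  have hFs : F ⊆ (conjGraph iH).left.base ⁻¹' Set.range s.left.base ∩ (fst G H).left.base ⁻¹' D := by
    refine subset_of_closedPoints (hy₀.preimage Φ.continuous)
      ((s.left.isClosedEmbedding.isClosed_range.preimage (conjGraph iH).left.continuous).inter
        (hD.preimage (fst G H).left.continuous)) fun p hp => ?_
    have e : p ≫ conjMap iH = g₁ := ratPt_ext hp
    have e' : (p ≫ fst G H) * ((p ≫ snd G H) ≫ iH) * (p ≫ fst G H)⁻¹ = g₁ := by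
      rw [← comp_conjMap, lift_comp_fst_snd, e]
    refine ⟨⟨(p ≫ fst G H).left.base (IsLocalRing.closedPoint k), ?_⟩, ?_⟩
    · rw [← GrothLib.Orbit27.comp_apply, ← GrothLib.Orbit27.comp_apply]
      congr 2
      rw [comp_lift, Category.comp_id, comp_toUnit_assoc, toUnit_unique (toUnit _) (𝟙 _), Category.id_comp,
        conjGraph, comp_lift, e]
    · show π ((fst G H).left.base (p.left.base (IsLocalRing.closedPoint k))) ∈ (P : Set X.left)
      rw [← GrothLib.Orbit27.comp_apply, ← GrothLib.Orbit27.comp_apply]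
      refine Finset.mem_coe.2 (Finset.mem_image.2 ⟨(p ≫ fst G H) ≫ a.orbitMap o, hfin.mem_toFinset.2 ?_, rfl⟩)
      show lift g₁ ((p ≫ fst G H) ≫ a.orbitMap o) ≫ a.act = (p ≫ fst G H) ≫ a.orbitMap o
      have h1 : lift g₁ ((p ≫ fst G H) ≫ a.orbitMap o) ≫ a.act = (g₁ * (p ≫ fst G H)) ≫ a.orbitMap o := by
        rw [GrothLib.FlatFactor.comp_orbitMap, GrothLib.FlatFactor.comp_orbitMap, GrothLib.DiagGrp.act_mul]
      rw [h1, eq_comm, orbitMap_eq_iff iH hX]
      exact ⟨p ≫ snd G H, mul_inv_eq_iff_eq_mul.1 e'⟩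
  have hFdim : topologicalKrullDim ↥F ≤ (η' : WithBot ℕ∞) := by
    rw [← Kleiman27.dim_eq_of_embedding (conjGraph iH).left.isEmbedding F,
      ← Kleiman27.dim_preimage s.left.isEmbedding (Set.image_subset_iff.2 fun v hv => (hFs hv).1)]
    refine le_trans ((IsEmbedding.inclusion ?_).isInducing.topologicalKrullDim_le) hDdim
    rintro w ⟨v, hv, hvw⟩
    have h := congrArg (fst G G).left.base hvw
    rw [← Scheme.Hom.comp_apply, ← Scheme.Hom.comp_apply, ← Over.comp_left, ← Over.comp_left, conjGraph, lift_fst,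
      lift_fst] at h
    exact (show (fst G H).left.base v = w from h) ▸ (hFs hv).2
  -- domination
  have hdense : DenseRange Φ.base := by
    obtain ⟨b, hb⟩ := Kleiman27.exists_nat G.hom (isClosed_closure (s := Set.range Φ.base))
      (by
        rw [← Set.image_univ]
        exact ((IrreducibleSpace.isIrreducible_univ (G ⊗ H).left).image _ Φ.continuous.continuousOn).closure)
    by_contra hnd
    have hb' : b < gd := by
      by_contra hle
      refine hnd (dense_iff_closure_eq.2 (Dim.eq_univ_of_dim_le isClosed_closure ?_ hb))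
      rw [hgd, hb]
      exact_mod_cast Nat.le_of_not_lt hle
    letI : G.left.Over (Spec (CommRingCat.of k)) := ⟨G.hom⟩
    letI : (G ⊗ H).left.Over (Spec (CommRingCat.of k)) := ⟨(G ⊗ H).hom⟩
    haveI : LocallyOfFiniteType (G.left ↘ Spec (CommRingCat.of k)) := ‹LocallyOfFiniteType G.hom›
    haveI : LocallyOfFiniteType ((G ⊗ H).left ↘ Spec (CommRingCat.of k)) := ‹LocallyOfFiniteType (G ⊗ H).hom›
    have hab : topologicalKrullDim ↥(G ⊗ H).left = ((gd + η' : ℕ) : WithBot ℕ∞) := by
      show topologicalKrullDim ↥(pullback G.hom H.hom) = _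
      rw [FBase7.topologicalKrullDim_pullback_eq_add G.hom H.hom, hgd, hη, Nat.cast_add]
    obtain ⟨h1, -, -⟩ := Groth.Agent.S1653.result k (G ⊗ H).left G.left Φ (Over.w (conjMap iH)) (gd + η') b hab hb
    let v₀ := (lift (1 : 𝟙_ (Over (Spec (CommRingCat.of k))) ⟶ G) h₀).left.base (IsLocalRing.closedPoint k)
    have hv₀ : Φ.base v₀ = y₀ := by
      show (lift 1 h₀ ≫ conjMap iH).left.base (IsLocalRing.closedPoint k) = y₀
      rw [comp_conjMap, _root_.one_mul, inv_one, _root_.mul_one]
    have h2 : FlatMor.fibreDimAt Φ v₀ ≤ (η' : WithBot ℕ∞) := by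
      refine le_trans (iInf_le _ ⟨⊤, trivial⟩) ?_
      refine le_trans (topologicalKrullDim_subspace_le _ _) ?_
      rw [Dim.IsEmbedding.topologicalKrullDim_eq (Φ.fiberι (Φ.base v₀)).isEmbedding (Φ.range_fiberι _), hv₀]
      exact hFdim
    have h3 := (h1 v₀).trans h2
    have h4 : gd + η' - b ≤ η' := by exact_mod_cast h3
    omega
  -- open image
  haveI : IsDominant Φ := ⟨hdense⟩
  haveI : LocallyOfFiniteType (Φ ≫ G.hom) := by rw [Over.w]; infer_instance
  haveI : LocallyOfFiniteType Φ := locallyOfFiniteType_of_comp Φ G.hom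
  haveI : QuasiCompact (Φ ≫ G.hom) := by rw [Over.w]; infer_instance
  haveI : QuasiCompact Φ := QuasiCompact.of_comp Φ G.hom
  obtain ⟨U, hUd, hfl, hlfp⟩ := Groth.Agent.S0414.result Φ
  haveI := hfl
  haveI := hlfp
  refine ⟨⟨Set.range ((Φ ∣_ U) ≫ U.ι).base, ?_⟩, ?_, ?_⟩
  · have h : IsOpenMap (Φ ∣_ U).base := (Φ ∣_ U).isOpenMap
    rw [show ⇑((Φ ∣_ U) ≫ U.ι).base = ⇑U.ι.base ∘ ⇑(Φ ∣_ U).base from funext fun w => Scheme.Hom.comp_apply _ _ w,
      Set.range_comp]
    exact U.ι.isOpenEmbedding.isOpenMap _ h.isOpen_range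
  · obtain ⟨w, hw⟩ : ∃ w, Φ.base w ∈ U := by
      obtain ⟨y, hyU, w, rfl⟩ := hdense.inter_open_nonempty U U.2 hUd.nonempty
      exact ⟨w, hyU⟩
    exact ⟨_, ⟨⟨w, hw⟩, rfl⟩⟩
  · rintro _ ⟨w, rfl⟩
    refine ⟨(Φ ⁻¹ᵁ U).ι w, ?_⟩
    show Φ ((Φ ⁻¹ᵁ U).ι w) = _
    rw [← Scheme.Hom.comp_apply, ← morphismRestrict_ι]

end GrothLib.Conj27
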